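import Cfsg.Prelude.Def_ClassicalGeometry
import Cfsg.Agent.KronRank.Conj
import Cfsg.Agent.SkewStruct.SpPrime

/-!
Symplectic matrices of prime order with small `rank (x - 1)`, with the parity of polynomial ranks.
-/

set_option autoImplicit false
set_option linter.unusedSectionVars false
set_option linter.style.haveILetI false

namespace Cfsg.Agent.TensorSymp

open Matrix Module Polynomial Cfsg.Agent.Classical Cfsg.Agent.SkewStruct

universe u

variable {F : Type u} [Field F] {d : ℕ}

theorem mem_spGL_iff (g : GL (Fin d ⊕ Fin d) F) :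
    g ∈ Cfsg.spGL d F ↔ ∀ u v, sympB d F (g.1 *ᵥ u) (g.1 *ᵥ v) = sympB d F u v := by
  constructor
  · intro h u v
    rw [sympB_apply, sympB_apply]
    exact h u v
  · intro h u v
    show Cfsg.sympForm d F (g.1 *ᵥ u) (g.1 *ᵥ v) = Cfsg.sympForm d F u v
    rw [← sympB_apply, ← sympB_apply]
    exact h u v

theorem block_mem (A D : Matrix (Fin d) (Fin d) F) (h : Aᵀ * D = 1) :
    ∃ g : GL (Fin d ⊕ Fin d) F, g ∈ Cfsg.spGL d F ∧ g.1 = Matrix.fromBlocks A 0 0 D := by
  have hM : Matrix.fromBlocks A 0 0 D ∈ Matrix.symplecticGroup (Fin d) F := by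
    have hD : Dᵀ * A = 1 := by
      have := congrArg Matrix.transpose h
      rwa [Matrix.transpose_mul, Matrix.transpose_transpose, Matrix.transpose_one] at this
    rw [SymplecticGroup.mem_iff', Matrix.fromBlocks_transpose, Matrix.J, Matrix.fromBlocks_multiply,
      Matrix.fromBlocks_multiply]
    simp [h, hD]
  refine ⟨(Matrix.isUnit_iff_isUnit_det _).2 (SymplecticGroup.symplectic_det hM) |>.unit, ?_, IsUnit.unit_spec _⟩
  rw [mem_spGL_iff, IsUnit.unit_spec]
  exact (mem_symplectic_iff _).1 hM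

variable [Fintype F] {p : ℕ} [Fact p.Prime] [CharP F p]

/-- Even order of `q` modulo `r`: rank at most that order. -/
theorem exists_elem_even {r : ℕ} [Fact r.Prime] (hrp : r ≠ p) (hr2 : r ≠ 2) {j : ℕ} (hj : 1 ≤ j) (hjd : j ≤ d)
    (hdvd : r ∣ (Fintype.card F ^ j) ^ 2 - 1) :
    ∃ x : GL (Fin d ⊕ Fin d) F, x ∈ Cfsg.spGL d F ∧ x.1 ^ r = 1 ∧ x.1 ≠ 1 ∧ (x.1 - 1).rank ≤ 2 * j := by
  classical
  obtain ⟨k, rfl⟩ := Nat.exists_eq_add_of_le hjd
  obtain ⟨g, hg, hgr, hfix⟩ := exists_fpf (F := F) (p := p) hrp hr2 hj hdvd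
  let ψ := splitE j k F
  let x := (ψ.trans (g.prodCongr (LinearEquiv.refl F (Fin k ⊕ Fin k → F)))).trans ψ.symm
  have hx : ∀ v, ψ (x v) = (g (ψ v).1, (ψ v).2) := fun v => by simp [x]
  have hxn : ∀ (i : ℕ) v, ψ ((x ^ i) v) = ((g ^ i) (ψ v).1, (ψ v).2) := by
    intro i
    induction i with
    | zero => intro v; rfl
    | succ i ih => intro v; rw [pow_succ', LinearEquiv.mul_apply, hx, ih, pow_succ', LinearEquiv.mul_apply]
  let A : Matrix.symplecticGroup (Fin (j + k)) F := (spEquiv (j + k) F).symm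
    ⟨x, fun u v => by rw [splitE_sympB, splitE_sympB u v, hx, hx, hg]⟩
  have hA : ∀ v, A.1 *ᵥ v = x v := fun v => spEquiv_symm_mulVec _ v
  have hu : IsUnit A.1 := (Matrix.isUnit_iff_isUnit_det _).2 (SymplecticGroup.symplectic_det A.2)
  refine ⟨hu.unit, ?_, ?_, fun h => ?_, ?_⟩
  · rw [mem_spGL_iff, IsUnit.unit_spec]
    exact (mem_symplectic_iff _).1 A.2
  · rw [IsUnit.unit_spec]
    have hn : ∀ (i : ℕ) v, (A.1 ^ i) *ᵥ v = (x ^ i) v := by
      intro i
      induction i with
      | zero => intro v; simp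
      | succ i ih => intro v; rw [pow_succ', ← Matrix.mulVec_mulVec, ih, hA, pow_succ', LinearEquiv.mul_apply]
    refine Matrix.ext_of_mulVec_single fun i => ψ.injective ?_
    rw [hn, hxn, hgr, Matrix.one_mulVec]
    rfl
  · rw [IsUnit.unit_spec] at h
    have h1 := hA (ψ.symm (fun _ => 1, 0))
    rw [h, Matrix.one_mulVec] at h1
    have h2 := congrArg (fun v => (ψ v).1) h1
    simp only [hx, LinearEquiv.apply_symm_apply] at h2
    have := congrFun (hfix _ h2.symm) (Sum.inl ⟨0, hj⟩)
    exact one_ne_zero this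
  · rw [IsUnit.unit_spec]
    refine (Submodule.finrank_mono (show LinearMap.range (A.1 - 1).mulVecLin ≤
      LinearMap.range (ψ.symm.toLinearMap.comp (LinearMap.inl F _ _)) from ?_)).trans
      ((LinearMap.finrank_range_le _).trans (by rw [finrank_symp]))
    rintro _ ⟨v, rfl⟩
    refine ⟨g (ψ v).1 - (ψ v).1, ψ.injective ?_⟩
    rw [Matrix.mulVecLin_apply, Matrix.sub_mulVec, Matrix.one_mulVec, hA]
    refine Prod.ext ?_ ?_ <;> simp [hx]

/-- Odd order of `q` modulo `r`: rank at most twice that order, and some polynomial in `x` has odd rank. -/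
theorem exists_elem_odd {r : ℕ} [Fact r.Prime] (hrp : r ≠ p) (hr2 : r ≠ 2) {e : ℕ}
    (he : e = orderOf (Fintype.card F : ZMod r)) (heo : Odd e) (hed : e ≤ d) :
    ∃ x : GL (Fin d ⊕ Fin d) F, x ∈ Cfsg.spGL d F ∧ x.1 ^ r = 1 ∧ x.1 ≠ 1 ∧ (x.1 - 1).rank ≤ 2 * e ∧
      ∃ f : F[X], Odd (aeval x.1 f).rank := by
  classical
  obtain ⟨k, rfl⟩ := Nat.exists_eq_add_of_le hed
  haveI : NeZero e := ⟨heo.pos.ne'⟩
  let K := FiniteField.Extension F p e
  haveI : Fintype K := Fintype.ofFinite K
  set q := Fintype.card F with hqd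
  have hK : Fintype.card K = q ^ e := by
    rw [← Nat.card_eq_fintype_card, FiniteField.natCard_extension, Nat.card_eq_fintype_card]
  have hr : r.Prime := Fact.out
  have hq1 : 1 ≤ q := Fintype.card_pos
  have hdvd : r ∣ Nat.card Kˣ := by
    rw [Nat.card_units, Nat.card_eq_fintype_card, hK, ← ZMod.natCast_eq_zero_iff, Nat.cast_sub (Nat.one_le_pow _ _ hq1),
      Nat.cast_pow, Nat.cast_one, he, pow_orderOf_eq_one, sub_self]
  obtain ⟨u, hu⟩ := exists_prime_orderOf_dvd_card' r hdvd
  set ζ : K := (u : K) with hζ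
  have hζn : ∀ m n : ℕ, ζ ^ m = ζ ^ n → (m : ZMod r) = n := fun m n h => by
    have h1 : u ^ m = u ^ n := Units.ext (by rw [Units.val_pow_eq_pow_val, Units.val_pow_eq_pow_val]; exact h)
    rw [pow_eq_pow_iff_modEq, hu] at h1
    exact (ZMod.natCast_eq_natCast_iff _ _ _).2 h1
  have hζr : ζ ^ r = 1 := by rw [hζ, ← Units.val_pow_eq_pow_val, ← hu, pow_orderOf_eq_one, Units.val_one]
  set f := minpoly F ζ with hf
  have hint : IsIntegral F ζ := IsIntegral.of_finite F ζ
  have hf0 : f ≠ 0 := minpoly.ne_zero hint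
  have hfd : f.natDegree ≤ e := (minpoly.natDegree_le ζ).trans (FiniteField.finrank_extension F p e).le
  have hroot : ∀ i : ℕ, aeval (ζ ^ q ^ i) f = 0 := by
    intro i
    induction i with
    | zero => rw [pow_zero, pow_one]; exact minpoly.aeval F ζ
    | succ i ih =>
      have := congrArg (FiniteField.frobeniusAlgHom F K) ih
      rw [← Polynomial.aeval_algHom_apply, map_zero, FiniteField.coe_frobeniusAlgHom] at this
      simpa only [← hqd, ← pow_mul, ← pow_succ] using this
  have hqz : (q : ZMod r) ≠ 0 := by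
    intro h0
    have h1 : (q : ZMod r) ^ e = 1 := by rw [he]; exact pow_orderOf_eq_one _
    rw [h0, zero_pow heo.pos.ne'] at h1
    exact zero_ne_one h1
  -- no other roots
  have hnot : ∀ y : K, aeval y f = 0 → ∃ i < e, ζ ^ q ^ i = y := by
    intro y hy
    by_contra hc
    push Not at hc
    let S : Finset K := insert y ((Finset.range e).image fun i => ζ ^ q ^ i)
    have hS : S ⊆ (f.map (algebraMap F K)).roots.toFinset := by
      intro z hz
      rw [Multiset.mem_toFinset, Polynomial.mem_roots ((Polynomial.map_ne_zero_iff (algebraMap F K).injective).2 hf0),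
        Polynomial.IsRoot, Polynomial.eval_map, ← Polynomial.aeval_def]
      rcases Finset.mem_insert.1 hz with rfl | hz
      · exact hy
      · obtain ⟨i, -, rfl⟩ := Finset.mem_image.1 hz
        exact hroot i
    have hcard : S.card = e + 1 := by
      rw [Finset.card_insert_of_notMem, Finset.card_image_of_injOn, Finset.card_range]
      · intro i hi j hj hij
        have h1 := hζn _ _ hij
        push_cast at h1
        exact pow_injOn_Iio_orderOf (show i ∈ Set.Iio _ from he ▸ Finset.mem_range.1 hi)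
          (show j ∈ Set.Iio _ from he ▸ Finset.mem_range.1 hj) h1
      · intro hm
        obtain ⟨i, hi, rfl⟩ := Finset.mem_image.1 hm
        exact hc i (Finset.mem_range.1 hi) rfl
    have h1 := (Finset.card_le_card hS).trans ((Multiset.toFinset_card_le _).trans (Polynomial.card_roots' _))
    rw [Polynomial.natDegree_map] at h1
    omega
  have hinv : aeval ζ⁻¹ f ≠ 0 := by
    intro h
    obtain ⟨i, hi, hiy⟩ := hnot _ h
    have h1 : ζ ^ (q ^ i + 1) = ζ ^ 0 := by rw [pow_succ, hiy, pow_zero, inv_mul_cancel₀ u.ne_zero]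
    have h2 := hζn _ _ h1
    push_cast at h2
    have h3 : e ∣ i * 2 := by
      rw [he]
      refine orderOf_dvd_of_pow_eq_one ?_
      rw [pow_mul, eq_neg_of_add_eq_zero_left h2, neg_one_sq]
    have h4 : e ∣ i := (Nat.Coprime.dvd_of_dvd_mul_right (Nat.coprime_two_right.2 heo) h3)
    obtain rfl : i = 0 := Nat.eq_zero_of_dvd_of_lt h4 hi
    rw [pow_zero, one_add_one_eq_two] at h2
    exact hr2 ((Nat.prime_dvd_prime_iff_eq hr Nat.prime_two).1 ((ZMod.natCast_eq_zero_iff 2 r).1 h2))
  have hone : aeval (1 : K) f ≠ 0 := by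
    intro h
    obtain ⟨i, -, hiy⟩ := hnot _ h
    have h2 := hζn (q ^ i) 0 (by rw [hiy, pow_zero])
    push_cast at h2
    exact pow_ne_zero _ hqz h2
  have hc0 : f.eval 1 ≠ 0 := fun h => hone (by
    rw [← map_one (algebraMap F K), Polynomial.aeval_algebraMap_apply, Polynomial.coe_aeval_eq_eval, h, map_zero])
  -- the matrices
  let bK := (Module.finBasis F K).reindex (finCongr (FiniteField.finrank_extension F p e))
  let L : K →ₐ[F] Matrix (Fin e) (Fin e) F := Algebra.leftMulMatrix bK
  let R := Matrix.reindexAlgEquiv F F (finSumFinEquiv (m := e) (n := k))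
  let Φ : K × F →ₐ[F] Matrix (Fin (e + k)) (Fin (e + k)) F :=
    AlgHom.ofLinearMap
      { toFun := fun w => R (Matrix.fromBlocks (L w.1) 0 0 (w.2 • 1))
        map_add' := fun v w => by simp [← map_add, Matrix.fromBlocks_add, add_smul]
        map_smul' := fun c v => by simp [← map_smul, Matrix.fromBlocks_smul, smul_smul] }
      (by simp [Matrix.fromBlocks_one])
      (fun v w => by simp [← map_mul, Matrix.fromBlocks_multiply, smul_smul, mul_comm])
  have hΦ : ∀ w, Φ w = R (Matrix.fromBlocks (L w.1) 0 0 (w.2 • 1)) := fun w => rfl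
  have hDΦ : ∀ c d : F, Φ (algebraMap F K c, d) = Matrix.diagonal (Sum.elim (fun _ => c) (fun _ => d) ∘ finSumFinEquiv.symm) := by
    intro c d
    rw [hΦ, AlgHom.commutes, Matrix.reindexAlgEquiv_apply, Matrix.reindex_apply, Algebra.algebraMap_eq_smul_one,
      Matrix.smul_one_eq_diagonal, Matrix.smul_one_eq_diagonal, Matrix.fromBlocks_diagonal, Matrix.submatrix_diagonal_equiv]
  let z : K × F := (ζ, 1)
  let z' : K × F := (ζ⁻¹, 1)
  have hzz : (Φ z)ᵀ * (Φ z')ᵀ = 1 := by
    rw [← Matrix.transpose_mul, ← map_mul, show z' * z = 1 from Prod.ext (inv_mul_cancel₀ u.ne_zero) (one_mul 1),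
      map_one, Matrix.transpose_one]
  obtain ⟨x, hx, hxv⟩ := block_mem (Φ z) (Φ z')ᵀ hzz
  have hbpow : ∀ i : ℕ, x.1 ^ i = Matrix.fromBlocks (Φ (z ^ i)) 0 0 (Φ (z' ^ i))ᵀ := by
    intro i
    induction i with
    | zero => simp [Matrix.fromBlocks_one]
    | succ i ih =>
      rw [pow_succ, ih, hxv, Matrix.fromBlocks_multiply, pow_succ, pow_succ', map_mul, map_mul, Matrix.transpose_mul]
      simp
  have haeval : ∀ g : F[X], aeval x.1 g = Matrix.fromBlocks (Φ (aeval z g)) 0 0 (Φ (aeval z' g))ᵀ := by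
    intro g
    induction g using Polynomial.induction_on' with
    | add g h hg hh => simp [map_add, hg, hh, Matrix.fromBlocks_add]
    | monomial i c =>
      rw [aeval_monomial, aeval_monomial, aeval_monomial, hbpow, ← Algebra.smul_def, ← Algebra.smul_def, ← Algebra.smul_def,
        map_smul, map_smul, Matrix.fromBlocks_smul, Matrix.transpose_smul, smul_zero]
  refine ⟨x, hx, ?_, ?_, ?_, f, ?_⟩
  · rw [hbpow]
    simp [z, z', Prod.pow_mk, inv_pow, hζr, ← Prod.one_eq_mk, Matrix.fromBlocks_one]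
  · intro h
    rw [hxv, ← Matrix.fromBlocks_one, Matrix.fromBlocks_inj] at h
    have h1 := h.1
    rw [hΦ, ← map_one R, R.injective.eq_iff, ← Matrix.fromBlocks_one, Matrix.fromBlocks_inj] at h1
    have h2 := Algebra.leftMulMatrix_injective bK (h1.1.trans (map_one L).symm)
    refine hr.ne_one ?_
    rw [← hu, orderOf_eq_one_iff]
    exact Units.ext h2
  · let P : Matrix (Fin (e + k)) (Fin (e + k)) F := Φ (1, 0)
    have h1 : x.1 - 1 = Matrix.fromBlocks P 0 0 P * (x.1 - 1) := by
      have := haeval (X - 1)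
      rw [map_sub, aeval_X, map_one] at this
      rw [this, Matrix.fromBlocks_multiply]
      simp only [Matrix.zero_mul, Matrix.mul_zero, add_zero, zero_add, P, map_sub, aeval_X, map_one]
      congr 1
      · rw [← map_one Φ, ← map_sub, ← map_mul]
        simp [z, Prod.one_eq_mk, -map_sub]
      · have hsymm : (Φ (1, 0))ᵀ = Φ (1, 0) := by
          rw [← map_one (algebraMap F K), hDΦ, Matrix.diagonal_transpose]
        rw [← map_one Φ, ← map_sub, ← hsymm, ← Matrix.transpose_mul, ← map_mul]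
        simp [z', Prod.one_eq_mk, -map_sub]
    rw [h1]
    refine (Matrix.rank_mul_le_left _ _).trans (le_of_eq ?_)
    rw [show P = _ from (congrArg (fun c => Φ (c, 0)) (map_one (algebraMap F K)).symm).trans (hDΦ 1 0),
      Matrix.fromBlocks_diagonal, Matrix.rank_diagonal, Fintype.card_subtype, Finset.card_filter]
    simp [Fintype.sum_sum_type, Fin.sum_univ_add, two_mul]
  · rw [haeval]
    have e1 : aeval z f = (algebraMap F K 0, f.eval 1) := by
      rw [Polynomial.aeval_prod_apply, hf, minpoly.aeval, map_zero, Polynomial.coe_aeval_eq_eval]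
    have hne : IsUnit (Φ (aeval z' f))ᵀ.det := by
      rw [Matrix.det_transpose, ← Matrix.isUnit_iff_isUnit_det]
      refine IsUnit.map Φ ?_
      rw [Polynomial.aeval_prod_apply, Prod.isUnit_iff]
      exact ⟨isUnit_iff_ne_zero.2 hinv, isUnit_iff_ne_zero.2 (by rw [Polynomial.coe_aeval_eq_eval]; exact hc0)⟩
    rw [show Matrix.fromBlocks (Φ (aeval z f)) 0 0 (Φ (aeval z' f))ᵀ =
      Matrix.fromBlocks (Φ (aeval z f)) 0 0 (1 : Matrix (Fin (e + k)) (Fin (e + k)) F) *
        Matrix.fromBlocks 1 0 0 (Φ (aeval z' f))ᵀ by rw [Matrix.fromBlocks_multiply]; simp,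
      Matrix.rank_mul_eq_left_of_isUnit_det _ _ (by rw [Matrix.det_fromBlocks_zero₂₁, Matrix.det_one, one_mul]; exact hne),
      e1, hDΦ, ← Matrix.diagonal_one, Matrix.fromBlocks_diagonal, Matrix.rank_diagonal, Fintype.card_subtype,
      Finset.card_filter]
    simp [Fintype.sum_sum_type, Fin.sum_univ_add, hc0]
    obtain ⟨m, hm⟩ := heo
    exact ⟨k + m, by omega⟩

end Cfsg.Agent.TensorSymp
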